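import Groth.Agent.BigEtLib.Exact
import Groth.Agent.BigBCLib.Main
import Groth.Agent.CohLib.ExtInjective
import Groth.Agent.LocSuppLib.General
import Groth.Prelude.Def_EtCore
import Groth.Prelude.Def_RDer

/-!
# Cohomology on the big and small étale sites
-/

set_option autoImplicit false
set_option linter.style.haveILetI false
set_option linter.unusedSectionVars false
set_option backward.isDefEq.respectTransparency false
set_option backward.isDefEq.respectTransparency.types false
universe w v v' u

open CategoryTheory CategoryTheory.Limits AlgebraicGeometry Opposite CategoryTheory.Abelian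

namespace BigEtLib

/-- Ext groups along an exact functor preserving injectives. -/
theorem nonempty_ext_equiv {A : Type v} [Category.{w} A] [Abelian A] [HasExt.{w} A] [HasInjectiveResolutions A]
    {B : Type v'} [Category.{w} B] [Abelian B] [HasExt.{w} B] [HasInjectiveResolutions B]
    (R : A ⥤ B) [R.Additive] [R.PreservesHomology] [R.PreservesInjectiveObjects] {P : A} {Q : B}
    (e : ∀ M : A, (P ⟶ M) ≃+ (Q ⟶ R.obj M))
    (he : ∀ {M M' : A} (g : M ⟶ M') (x : P ⟶ M), e M' (x ≫ g) = e M x ≫ R.map g) (N : A) (n : ℕ) :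
    Nonempty (Ext.{w} P N n ≃+ Ext.{w} Q (R.obj N) n) := by
  let I : InjectiveResolution N := injectiveResolution N
  let I' := LocSuppLib.mapRes R I
  let K : CochainComplex AddCommGrpCat.{w} ℕ :=
    ((preadditiveCoyoneda.obj (op P)).mapHomologicalComplex _).obj I.cocomplex
  obtain ⟨i⟩ := CohLib.nonempty_homology_iso_ext_of_injective I K (X := P)
    (fun m => AddEquiv.refl _) (fun _ _ => rfl) n
  obtain ⟨i'⟩ := CohLib.nonempty_homology_iso_ext_of_injective I' K (X := Q)
    (fun m => e (I.cocomplex.X m)) (fun m x => he (I.cocomplex.d m (m + 1)) x) n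
  exact ⟨(i.symm ≪≫ i').addCommGroupIsoToAddEquiv⟩

/-- Global sections as maps out of the constant sheaf. -/
noncomputable def homEquivTop {C : Type v} [Category.{v'} C] (J : GrothendieckTopology C)
    [HasWeakSheafify J AddCommGrpCat.{w}] {T : C} (hT : IsTerminal T) (M : Sheaf J AddCommGrpCat.{w}) :
    ((constantSheaf J AddCommGrpCat.{w}).obj (AddCommGrpCat.of (ULift.{w} ℤ)) ⟶ M) ≃+ M.obj.obj (op T) :=
  haveI : ((sheafSections J AddCommGrpCat.{w}).obj (op T)).Additive := { }
  haveI : (constantSheaf J AddCommGrpCat.{w}).Additive := (constantSheafAdj J AddCommGrpCat.{w} hT).left_adjoint_additive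
  AddEquiv.trans ((constantSheafAdj J AddCommGrpCat.{w} hT).homAddEquiv _ _)
    (AddCommGrpCat.uliftZMultiplesAddEquiv _)

theorem homEquivTop_comp {C : Type v} [Category.{v'} C] (J : GrothendieckTopology C)
    [HasWeakSheafify J AddCommGrpCat.{w}] {T : C} (hT : IsTerminal T) {M M' : Sheaf J AddCommGrpCat.{w}} (g : M ⟶ M')
    (x : (constantSheaf J AddCommGrpCat.{w}).obj (AddCommGrpCat.of (ULift.{w} ℤ)) ⟶ M) :
    homEquivTop J hT M' (x ≫ g) = g.hom.app (op T) (homEquivTop J hT M x) := by
  simp only [homEquivTop, AddEquiv.trans_apply]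
  erw [Adjunction.homEquiv_naturality_right]
  rfl

/-- Cohomology of the big étale site is cohomology of the restriction to the small one. -/
theorem nonempty_H_resEt (X : Scheme.{u}) (F : BigSite.Ab Scheme.etalePrecoverage X) (p : ℕ) :
    Nonempty (EtCoh.H X ((BigSite.resEt Scheme.etalePrecoverage X).obj F) p ≃+
      BigSite.H Scheme.etalePrecoverage X F p) := by
  haveI := preservesHomology_resEt X Scheme.etalePrecoverage
  haveI := preservesInjective_resEt X Scheme.etalePrecoverage
  let R := BigSite.resEt Scheme.etalePrecoverage X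
  let eB := fun (M : BigSite.Ab Scheme.etalePrecoverage X) => homEquivTop (QuotSh.J Scheme.etalePrecoverage X) (Over.mkIdTerminal (X := X)) M
  let eS := fun (M : EtCoh.Ab X) => homEquivTop X.smallEtaleTopology (EtCore.topIsTerminal X) M
  obtain ⟨e⟩ := nonempty_ext_equiv R (fun M => (eB M).trans (eS (R.obj M)).symm) (fun {M M'} g x => by
    apply (eS (R.obj M')).injective
    refine ((eS _).apply_symm_apply _).trans ?_
    refine (homEquivTop_comp _ _ g x).trans ?_
    refine Eq.trans ?_ (homEquivTop_comp X.smallEtaleTopology (EtCore.topIsTerminal X) (R.map g)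
      (((eB M).trans (eS (R.obj M)).symm) x)).symm
    exact (congrArg ((R.map g).hom.app (op (EtCoh.top X))) ((eS _).apply_symm_apply (eB M x))).symm) F p
  exact ⟨e.symm⟩

theorem isZero_RresEt (S : Scheme.{u}) (K : Precoverage Scheme.{u}) [BigSite.AEtCont K S] [BigSite.AEtCocont K S]
    (F : BigSite.Ab K S) (q : ℕ) (hq : 0 < q) : IsZero ((BigSite.RresEt K S q).obj F) := by
  haveI := preservesHomology_resEt S K
  obtain ⟨n, rfl⟩ : ∃ n, q = n + 1 := ⟨q - 1, by omega⟩
  let R : InjectiveResolution F := injectiveResolution F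
  refine IsZero.of_iso ?_ (R.isoRightDerivedObj (BigSite.resEt K S) (n + 1))
  exact (ShortComplex.exact_iff_isZero_homology _).1 ((R.cocomplex_exactAt_succ n).map (BigSite.resEt K S))

/-- Derived functors commute with exact base changes. -/
theorem nonempty_rightDerived_baseChange {A A' B B' : Type v} [Category.{w} A] [Category.{w} A'] [Category.{w} B]
    [Category.{w} B'] [Abelian A] [Abelian A'] [Abelian B] [Abelian B'] [HasInjectiveResolutions A]
    [HasInjectiveResolutions A'] (P : A ⥤ B) [P.Additive] (P' : A' ⥤ B') [P'.Additive]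
    (G : A ⥤ A') [G.Additive] [G.PreservesHomology] [G.PreservesInjectiveObjects]
    (G' : B ⥤ B') [G'.Additive] [G'.PreservesHomology] (e : P ⋙ G' ≅ G ⋙ P') (F : A) (q : ℕ) :
    Nonempty (G'.obj ((P.rightDerived q).obj F) ≅ (P'.rightDerived q).obj (G.obj F)) := by
  let R : InjectiveResolution F := injectiveResolution F
  exact ⟨G'.mapIso (R.isoRightDerivedObj P q) ≪≫
    ((((P.mapHomologicalComplex _).obj R.cocomplex).sc q).mapHomologyIso G').symm ≪≫
    (R.isoRightDerivedObj (P ⋙ G') q).symm ≪≫ (RDer.rightDerivedIso e q).app F ≪≫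
    (LocSuppLib.compIso G P' q).app F⟩

variable {T S : Scheme.{u}} (f : T ⟶ S)

theorem preservesHomology_resEtAlong :
    (BigSite.resEtAlong Scheme.etalePrecoverage f).PreservesHomology := by
  haveI := preservesHomology_pullBig f Scheme.etalePrecoverage
  haveI := preservesHomology_resEt T Scheme.etalePrecoverage
  haveI := (BigSite.pullBig Scheme.etalePrecoverage f AddCommGrpCat.{u + 1}).preservesFiniteLimits_of_preservesHomology
  haveI := (BigSite.pullBig Scheme.etalePrecoverage f AddCommGrpCat.{u + 1}).preservesFiniteColimits_of_preservesHomology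
  haveI := (BigSite.resEt Scheme.etalePrecoverage T).preservesFiniteLimits_of_preservesHomology
  haveI := (BigSite.resEt Scheme.etalePrecoverage T).preservesFiniteColimits_of_preservesHomology
  haveI : PreservesFiniteLimits (BigSite.resEtAlong Scheme.etalePrecoverage f) := comp_preservesFiniteLimits _ _
  haveI : PreservesFiniteColimits (BigSite.resEtAlong Scheme.etalePrecoverage f) := comp_preservesFiniteColimits _ _
  infer_instance

theorem preservesInjective_resEtAlong :
    (BigSite.resEtAlong Scheme.etalePrecoverage f).PreservesInjectiveObjects := by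
  haveI := preservesInjective_pullBig f Scheme.etalePrecoverage
  haveI := preservesInjective_resEt T Scheme.etalePrecoverage
  exact ⟨fun {I} _ => inferInstanceAs (Injective
    ((BigSite.resEt Scheme.etalePrecoverage T).obj ((BigSite.pullBig Scheme.etalePrecoverage f _).obj I)))⟩

/-- Restricting a sheaf pulled back from the small site gives the pullback. -/
theorem nonempty_resEtAlong_piEtPull :
    Nonempty (BigSite.piEtPull Scheme.etalePrecoverage S ⋙ BigSite.resEtAlong Scheme.etalePrecoverage f ≅
      EtCoh.pull f) := by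
  obtain ⟨c⟩ := BigBCLib.nonempty_pushBig_resEtAlong (f := f) (g := 𝟙 S) (g' := 𝟙 T) (f' := f)
    (IsPullback.of_horiz_isIso ⟨by simp⟩)
  let cT : BigSite.resEtAlong Scheme.etalePrecoverage (𝟙 T) ≅ BigSite.resEt Scheme.etalePrecoverage T :=
    Functor.isoWhiskerRight ((Scheme.etalePrecoverage.toGrothendieck).overMapPullbackId AddCommGrpCat.{u + 1} T) _ ≪≫
      Functor.leftUnitor _
  let cS : BigSite.resEtAlong Scheme.etalePrecoverage (𝟙 S) ≅ BigSite.resEt Scheme.etalePrecoverage S :=
    Functor.isoWhiskerRight ((Scheme.etalePrecoverage.toGrothendieck).overMapPullbackId AddCommGrpCat.{u + 1} S) _ ≪≫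
      Functor.leftUnitor _
  let σ : BigSite.pushBig Scheme.etalePrecoverage f AddCommGrpCat.{u + 1} ⋙ BigSite.resEt Scheme.etalePrecoverage S ≅
      BigSite.resEt Scheme.etalePrecoverage T ⋙ EtCoh.push f :=
    Functor.isoWhiskerLeft _ cS.symm ≪≫ c ≪≫ Functor.isoWhiskerRight cT _
  let m : BigSite.piEtPull Scheme.etalePrecoverage S ⋙ BigSite.pullBig Scheme.etalePrecoverage f AddCommGrpCat.{u + 1} ≅
      EtCoh.pull f ⋙ BigSite.piEtPull Scheme.etalePrecoverage T :=
    Adjunction.leftAdjointUniq
      (((BigSite.piEtAdj Scheme.etalePrecoverage S).comp (BigSite.bigAdj Scheme.etalePrecoverage f _)).ofNatIsoRight σ)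
      ((EtCoh.pullPushAdj f).comp (BigSite.piEtAdj Scheme.etalePrecoverage T))
  haveI : IsIso (BigSite.piEtAdj Scheme.etalePrecoverage T).unit := isIso_piEtAdj_unit T
  exact ⟨(Functor.associator _ _ _).symm ≪≫ Functor.isoWhiskerRight m _ ≪≫ Functor.associator _ _ _ ≪≫
    Functor.isoWhiskerLeft _ (asIso (BigSite.piEtAdj Scheme.etalePrecoverage T).unit).symm ≪≫ Functor.rightUnitor _⟩

theorem nonempty_HU_piEtPull (n : ℕ) (F : EtCoh.Ab S) :
    Nonempty (BigSite.HU Scheme.etalePrecoverage ((BigSite.piEtPull Scheme.etalePrecoverage S).obj F) n (Over.mk f) ≃+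
      EtCoh.H T ((EtCoh.pull f).obj F) n) := by
  obtain ⟨i⟩ := nonempty_resEtAlong_piEtPull f
  obtain ⟨e⟩ := nonempty_H_resEt T ((BigSite.pullBig Scheme.etalePrecoverage f AddCommGrpCat.{u + 1}).obj
    ((BigSite.piEtPull Scheme.etalePrecoverage S).obj F)) n
  exact ⟨e.symm.trans ((EtCoh.HF T n).mapIso (i.app F)).addCommGroupIsoToAddEquiv⟩

end BigEtLib
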