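import Groth.Agent.BigEtLib.Compare
import Groth.Agent.AnLib.FlatPullback

/-!
# Cohomology on the big and small Zariski sites
-/

set_option autoImplicit false
set_option linter.style.haveILetI false
set_option linter.unusedSectionVars false
set_option backward.isDefEq.respectTransparency false
set_option backward.isDefEq.respectTransparency.types false
universe u

open CategoryTheory CategoryTheory.Limits AlgebraicGeometry Opposite TopologicalSpace

namespace BigEtLib

variable (X : Scheme.{u})

theorem flat_zarIncl : RepresentablyFlat (BigSite.zarIncl X) := by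
  constructor
  intro T
  let mk' : ∀ (U : X.Opens), Set.range T.hom.base ⊆ U → StructuredArrow T (BigSite.zarIncl X) := fun U hU =>
    StructuredArrow.mk (Y := U) (Over.homMk (U := T) (V := (BigSite.zarIncl X).obj U)
      (IsOpenImmersion.lift U.ι T.hom ((Scheme.Opens.range_ι U).symm ▸ hU :)) (IsOpenImmersion.lift_fac _ _ _))
  have hom_eq : ∀ {A : StructuredArrow T (BigSite.zarIncl X)} (a b : T ⟶ (BigSite.zarIncl X).obj A.right), a = b :=
    fun {A} a b => Over.OverMorphism.ext ((cancel_mono A.right.ι).1 ((Over.w a).trans (Over.w b).symm))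
  have hsub : ∀ A : StructuredArrow T (BigSite.zarIncl X), Set.range T.hom.base ⊆ A.right := fun A => by
    rw [← Over.w A.hom]
    rintro _ ⟨z, rfl⟩
    exact ((A.hom.left.base z : _) : (A.right : Scheme.{u})).2
  haveI : Nonempty (StructuredArrow T (BigSite.zarIncl X)) := ⟨mk' ⊤ (Set.subset_univ _)⟩
  refine { cone_objs := fun A B => ?_, cone_maps := fun {A B} f g => ?_ }
  · let M := mk' (A.right ⊓ B.right) (fun z hz => ⟨hsub A hz, hsub B hz⟩)
    exact ⟨M, StructuredArrow.homMk (homOfLE inf_le_left) (hom_eq _ _),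
      StructuredArrow.homMk (homOfLE inf_le_right) (hom_eq _ _), trivial⟩
  · exact ⟨A, 𝟙 A, StructuredArrow.hom_ext _ _ (Subsingleton.elim _ _)⟩

theorem isCocontinuous_zarIncl :
    (BigSite.zarIncl X).IsCocontinuous (Opens.grothendieckTopology X) (QuotSh.J Scheme.zariskiPrecoverage X) where
  cover_lift {U} R hR := by
    obtain ⟨𝒰, h𝒰⟩ := Scheme.exists_cover_of_mem_grothendieckTopology ((GrothendieckTopology.mem_over_iff _ R).1 hR)
    intro x hx
    obtain ⟨i, y, hy⟩ := 𝒰.exists_eq (⟨x, hx⟩ : (U : Scheme.{u}))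
    haveI : IsOpenImmersion (𝒰.f i) := 𝒰.map_prop i
    let j : 𝒰.X i ⟶ X := 𝒰.f i ≫ U.ι
    let V : X.Opens := j.opensRange
    have hVU : V ≤ U := by
      rintro _ ⟨z, rfl⟩
      exact (((𝒰.f i).base z : _) : (U : Scheme.{u})).2
    refine ⟨V, homOfLE hVU, ?_, ⟨y, congrArg U.ι.base hy⟩⟩
    show R ((BigSite.zarIncl X).map (homOfLE hVU))
    have hR' : R (Over.homMk (𝒰.f i) : Over.mk (𝒰.f i ≫ ((BigSite.zarIncl X).obj U).hom) ⟶ (BigSite.zarIncl X).obj U) :=
      (Sieve.overEquiv_iff R _).1 (h𝒰 _ _ (Presieve.ofArrows.mk i))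
    let l : (V : Scheme.{u}) ⟶ 𝒰.X i := IsOpenImmersion.lift j V.ι (by rw [Scheme.Opens.range_ι]; rfl)
    have hl : l ≫ 𝒰.f i = X.homOfLE hVU := by
      rw [← cancel_mono U.ι, Category.assoc, X.homOfLE_ι]
      exact IsOpenImmersion.lift_fac _ _ _
    have : (Over.homMk l (by
        show l ≫ 𝒰.f i ≫ U.ι = V.ι
        exact IsOpenImmersion.lift_fac _ _ _) :
          (BigSite.zarIncl X).obj V ⟶ Over.mk (𝒰.f i ≫ ((BigSite.zarIncl X).obj U).hom)) ≫
        (Over.homMk (𝒰.f i) : Over.mk (𝒰.f i ≫ ((BigSite.zarIncl X).obj U).hom) ⟶ (BigSite.zarIncl X).obj U) =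
          (BigSite.zarIncl X).map (homOfLE hVU) :=
      Over.OverMorphism.ext hl
    rw [← this]
    exact R.downward_closed hR' _

theorem nonempty_H_resZar [BigSite.ZarCont Scheme.zariskiPrecoverage X]
    (F : BigSite.Ab Scheme.zariskiPrecoverage X) (p : ℕ) :
    Nonempty (EtZar.H ((BigSite.resZar Scheme.zariskiPrecoverage X).obj F) p ≃+
      BigSite.H Scheme.zariskiPrecoverage X F p) := by
  haveI := flat_zarIncl X
  haveI := isCocontinuous_zarIncl X
  let R := BigSite.resZar Scheme.zariskiPrecoverage X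
  haveI : R.PreservesHomology := by
    haveI : PreservesLimitsOfSize.{0, 0} R := (BigSite.piZarAdj Scheme.zariskiPrecoverage X).rightAdjoint_preservesLimits
    haveI : PreservesColimitsOfSize.{0, 0} R :=
      ((BigSite.zarIncl X).sheafAdjunctionCocontinuous AddCommGrpCat.{u + 1} (Opens.grothendieckTopology X)
        (QuotSh.J Scheme.zariskiPrecoverage X)).leftAdjoint_preservesColimits
    haveI : PreservesFiniteLimits R := PreservesLimitsOfSize.preservesFiniteLimits _
    haveI : PreservesFiniteColimits R := PreservesColimitsOfSize.preservesFiniteColimits _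
    infer_instance
  haveI : R.PreservesInjectiveObjects := by
    haveI : PreservesFiniteLimits (BigSite.piZarPull Scheme.zariskiPrecoverage X) :=
      AnLib.sheafPullback_preservesFiniteLimits.{u + 1} _ _ _
    exact Functor.preservesInjectiveObjects_of_adjunction_of_preservesMonomorphisms (BigSite.piZarAdj Scheme.zariskiPrecoverage X)
  have hT : IsTerminal (⊤ : X.Opens) := IsTerminal.ofUniqueHom (fun _ => homOfLE le_top) fun _ _ => Subsingleton.elim _ _
  let i : (BigSite.zarIncl X).obj ⊤ ≅ Over.mk (𝟙 X) := Over.isoMk X.topIso (by simp [Scheme.topIso]; rfl)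
  let eB := fun (M : BigSite.Ab Scheme.zariskiPrecoverage X) =>
    (homEquivTop (QuotSh.J Scheme.zariskiPrecoverage X) (Over.mkIdTerminal (X := X)) M).trans
      (M.obj.mapIso i.op).addCommGroupIsoToAddEquiv
  let eS := fun (M : EtZar.Ab X) => homEquivTop (Opens.grothendieckTopology X) hT M
  obtain ⟨e⟩ := nonempty_ext_equiv R (fun M => (eB M).trans (eS (R.obj M)).symm) (fun {M M'} g x => by
    apply (eS (R.obj M')).injective
    refine ((eS _).apply_symm_apply _).trans ?_
    refine (congrArg (M'.obj.map i.hom.op) (homEquivTop_comp _ _ g x)).trans ?_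
    refine ((NatTrans.naturality_apply g.hom i.hom.op _).symm).trans ?_
    refine Eq.trans ?_ (homEquivTop_comp (Opens.grothendieckTopology X) hT (R.map g)
      (((eB M).trans (eS (R.obj M)).symm) x)).symm
    exact (congrArg ((R.map g).hom.app (op (⊤ : X.Opens))) ((eS _).apply_symm_apply (eB M x))).symm) F p
  exact ⟨e.symm⟩

end BigEtLib
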