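import Groth.Prelude.Def_BigSite
import Groth.Agent.EpsLib.LanExact
import Mathlib.CategoryTheory.Limits.Final
import Mathlib.CategoryTheory.Adjunction.Triple
import Mathlib.CategoryTheory.Preadditive.Injective.Preserves
import Mathlib.Algebra.Category.Grp.AB

/-!
# Exactness properties of the functors between big and small étale sites
-/

set_option autoImplicit false
set_option linter.style.haveILetI false
set_option linter.unusedSectionVars false
set_option backward.isDefEq.respectTransparency false
set_option backward.isDefEq.respectTransparency.types false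
universe u

open CategoryTheory CategoryTheory.Limits AlgebraicGeometry Opposite

namespace BigEtLib

section Shriek

variable {T S : Scheme.{u}} (f : T ⟶ S) (V : (Over S)ᵒᵖ)

/-- The components of the category over which extension by zero is computed. -/
abbrev Comp : Type (u + 1) := ULift.{u + 1} {g : V.unop.left ⟶ T // g ≫ f = V.unop.hom}

/-- Their terminal objects. -/
noncomputable abbrev compObj (g : Comp f V) : CostructuredArrow (Over.map f).op V :=
  CostructuredArrow.mk (Y := op (Over.mk g.down.1))
    (Over.homMk (U := V.unop) (V := (Over.map f).obj (Over.mk g.down.1)) (𝟙 V.unop.left)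
      ((Category.id_comp _).trans g.down.2)).op

theorem final_comp : (Discrete.functor (compObj f V)).Final := by
  refine ⟨fun j => ?_⟩
  obtain ⟨⟨A⟩, h, rfl⟩ := j.mk_surjective
  let g : Comp f V := ⟨⟨h.unop.left ≫ A.hom, (Category.assoc _ _ _).trans (Over.w h.unop)⟩⟩
  haveI : Nonempty (StructuredArrow (CostructuredArrow.mk h) (Discrete.functor (compObj f V))) :=
    ⟨StructuredArrow.mk (Y := (⟨g⟩ : Discrete (Comp f V))) (CostructuredArrow.homMk
      (Over.homMk (U := Over.mk (h.unop.left ≫ A.hom)) (V := A) h.unop.left rfl).op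
      (Quiver.Hom.unop_inj (Over.OverMorphism.ext (Category.id_comp _))))⟩
  refine zigzag_isConnected fun P Q => ?_
  obtain ⟨⟨g₁⟩, h₁, rfl⟩ := StructuredArrow.mk_surjective P
  obtain ⟨⟨g₂⟩, h₂, rfl⟩ := StructuredArrow.mk_surjective Q
  have key : ∀ (g : Comp f V) (a : CostructuredArrow.mk h ⟶ compObj f V g),
      a.left.unop.left = h.unop.left ∧ g.down.1 = h.unop.left ≫ A.hom := fun g a => by
    have h1 := congrArg (fun q => q.unop.left) (CostructuredArrow.w a)
    have h2 : a.left.unop.left = h.unop.left := (Category.id_comp _).symm.trans h1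
    exact ⟨h2, by rw [← h2]; exact (Over.w a.left.unop).symm⟩
  obtain rfl : g₁ = g₂ := ULift.ext _ _ (Subtype.ext ((key g₁ h₁).2.trans (key g₂ h₂).2.symm))
  obtain rfl : h₁ = h₂ := CostructuredArrow.hom_ext _ _
    (Quiver.Hom.unop_inj (Over.OverMorphism.ext ((key g₁ h₁).1.trans (key g₁ h₂).1.symm)))
  exact Zigzag.refl _

theorem lan_preservesFiniteLimits :
    PreservesFiniteLimits
      ((Over.map f).op.lan : ((Over T)ᵒᵖ ⥤ AddCommGrpCat.{u + 1}) ⥤ (Over S)ᵒᵖ ⥤ AddCommGrpCat.{u + 1}) := by
  apply preservesFiniteLimits_of_preservesFiniteLimitsOfSize.{0}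
  intro J _ _
  apply preservesLimitsOfShape_of_evaluation
  intro K
  haveI := final_comp f K
  haveI : PreservesFiniteLimits (colim (J := Discrete (Comp f K)) (C := AddCommGrpCat.{u + 1})) :=
    HasExactColimitsOfShape.preservesFiniteLimits
  haveI : PreservesFiniteLimits ((Functor.whiskeringLeft _ _ AddCommGrpCat.{u + 1}).obj
      (Discrete.functor (compObj f K)) ⋙ colim) := comp_preservesFiniteLimits _ _
  haveI : PreservesFiniteLimits (colim (J := CostructuredArrow (Over.map f).op K) (C := AddCommGrpCat.{u + 1})) :=
    preservesFiniteLimits_of_natIso (Functor.Final.colimIso (Discrete.functor (compObj f K)))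
  exact preservesLimitsOfShape_of_natIso (Groth.Agent.EpsLib.lanEvalIso (Over.map f).op K).symm

/-- Extension by zero on the big sites is exact. -/
theorem shriekAb_preservesFiniteLimits (K : Precoverage Scheme.{u}) :
    PreservesFiniteLimits (BigSite.shriekAb K f) := by
  haveI := lan_preservesFiniteLimits f
  apply Functor.sheafPullbackConstruction.preservesFiniteLimits

theorem preservesHomology_pullBig (K : Precoverage Scheme.{u}) :
    (BigSite.pullBig K f AddCommGrpCat.{u + 1}).PreservesHomology := by
  haveI : (BigSite.pullBig K f AddCommGrpCat.{u + 1}).IsRightAdjoint := (BigSite.shriekAbAdj K f).isRightAdjoint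
  haveI : (BigSite.pullBig K f AddCommGrpCat.{u + 1}).IsLeftAdjoint := (BigSite.bigAdj K f _).isLeftAdjoint
  haveI : PreservesColimitsOfSize.{0, 0} (BigSite.pullBig K f AddCommGrpCat.{u + 1}) :=
    (BigSite.bigAdj K f _).leftAdjoint_preservesColimits
  haveI : PreservesLimitsOfSize.{0, 0} (BigSite.pullBig K f AddCommGrpCat.{u + 1}) :=
    (BigSite.shriekAbAdj K f).rightAdjoint_preservesLimits
  haveI : PreservesFiniteLimits (BigSite.pullBig K f AddCommGrpCat.{u + 1}) :=
    PreservesLimitsOfSize.preservesFiniteLimits _
  haveI : PreservesFiniteColimits (BigSite.pullBig K f AddCommGrpCat.{u + 1}) :=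
    PreservesColimitsOfSize.preservesFiniteColimits _
  infer_instance

theorem preservesInjective_pullBig (K : Precoverage Scheme.{u}) :
    (BigSite.pullBig K f AddCommGrpCat.{u + 1}).PreservesInjectiveObjects := by
  haveI := shriekAb_preservesFiniteLimits f K
  exact Functor.preservesInjectiveObjects_of_adjunction_of_preservesMonomorphisms (BigSite.shriekAbAdj K f)

end Shriek

section Small

variable (S : Scheme.{u})

theorem piEtPull_preservesFiniteLimits (K : Precoverage Scheme.{u}) [BigSite.AEtCont K S] :
    PreservesFiniteLimits (BigSite.piEtPull K S) := by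
  haveI : RepresentablyFlat (EtFppf.a S) := by
    haveI : PreservesFiniteLimits (EtFppf.a S) :=
      inferInstanceAs (PreservesFiniteLimits (Scheme.Etale.forget S))
    exact flat_of_preservesFiniteLimits _
  exact Groth.Agent.EpsLib.sheafPullback_preservesFiniteLimits _ _ _

theorem preservesHomology_resEt (K : Precoverage Scheme.{u}) [BigSite.AEtCont K S] [BigSite.AEtCocont K S] :
    (BigSite.resEt K S).PreservesHomology := by
  haveI : PreservesColimitsOfSize.{0, 0} (BigSite.resEt K S) := (BigSite.iEtAdj K S).leftAdjoint_preservesColimits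
  haveI : PreservesLimitsOfSize.{0, 0} (BigSite.resEt K S) := (BigSite.piEtAdj K S).rightAdjoint_preservesLimits
  haveI : PreservesFiniteLimits (BigSite.resEt K S) := PreservesLimitsOfSize.preservesFiniteLimits _
  haveI : PreservesFiniteColimits (BigSite.resEt K S) := PreservesColimitsOfSize.preservesFiniteColimits _
  infer_instance

theorem preservesInjective_resEt (K : Precoverage Scheme.{u}) [BigSite.AEtCont K S] :
    (BigSite.resEt K S).PreservesInjectiveObjects := by
  haveI := piEtPull_preservesFiniteLimits S K
  exact Functor.preservesInjectiveObjects_of_adjunction_of_preservesMonomorphisms (BigSite.piEtAdj K S)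

theorem isIso_piEtAdj_unit {A : Type (u + 2)} [Category.{u + 1} A]
    [∀ P : S.Etaleᵒᵖ ⥤ A, (EtFppf.a S).op.HasPointwiseRightKanExtension P]
    [((EtFppf.a S).sheafPushforwardContinuous A S.smallEtaleTopology
      (QuotSh.J Scheme.etalePrecoverage S)).IsRightAdjoint] :
    IsIso ((EtFppf.a S).sheafAdjunctionContinuous A S.smallEtaleTopology
      (QuotSh.J Scheme.etalePrecoverage S)).unit := by
  haveI : (EtFppf.a S).Full := inferInstanceAs (Scheme.Etale.forget S).Full
  haveI : (EtFppf.a S).Faithful := inferInstanceAs (Scheme.Etale.forget S).Faithful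
  let t : Adjunction.Triple _ _ _ :=
    { adj₁ := (EtFppf.a S).sheafAdjunctionContinuous A S.smallEtaleTopology (QuotSh.J Scheme.etalePrecoverage S)
      adj₂ := (EtFppf.a S).sheafAdjunctionCocontinuous A S.smallEtaleTopology (QuotSh.J Scheme.etalePrecoverage S) }
  refine t.isIso_unit_iff_isIso_counit.2 ?_
  haveI : ∀ G, IsIso (t.adj₂.counit.app G) := fun G => by
    haveI : IsIso ((sheafToPresheaf _ _).map (t.adj₂.counit.app G)) := by
      show IsIso (t.adj₂.counit.app G).hom
      rw [show (t.adj₂.counit.app G).hom = _ from Functor.sheafAdjunctionCocontinuous_counit_app_hom _ _ _ _ G,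
        Functor.ranAdjunction_counit]
      haveI : ∀ U, IsIso (((EtFppf.a S).op.ranCounit.app G.obj).app U) := fun U => inferInstance
      exact NatIso.isIso_of_isIso_app _
    exact isIso_of_reflects_iso _ (sheafToPresheaf S.smallEtaleTopology A)
  exact NatIso.isIso_of_isIso_app _

end Small

end BigEtLib
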